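import Cfsg.Agent.FT.BG13Base

/-! Aliases in the namespace `FT.B13`, so that section 13 does not depend on `open`. -/

namespace Cfsg.Agent.FT.B13

export Cfsg.Agent.FT.B12 (
  piNat_of_dvd piNat_one piNat_mul piNat_prime piNat_pow coprime_of_piNat eq_one_of_piNat
  isPi_of_le isPi_mono isPi_bot isPi_singleton_iff isPi_of_isPGroup isPi_of_card
  isPGroup_of_card ne_bot_of_card isPi_compl_singleton_iff isPi_compl_of_not_mem
  coprime_of_isPi coprime_of_isPi' inf_eq_bot_of_isPi inf_eq_bot_of_isPi' eq_bot_of_isPi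
  card_sup_dvd isPi_sup isPi_cj piNat_orderOf isPi_zpowers exists_card_eq_prime
  exists_prime_card_le eq_bot_or_eq_of_card_prime relIndex_dvd_of_norm relIndex_sup_of_norm
  le_of_coprime_relIndex le_of_le_sup_of_isPi hall_isPi hall_piNat hall_mk hall_coprime
  hall_self hall_of_le hall_trans piNat_relIndex_of_hall_le hall_eq_of_le le_normal_hall
  normal_le_hall normal_hall_inf hall_inf_normal hall_cj hall_cj_of_mem hall_congr
  dvd_card_hall card_dvd_hall hall_card_eq hall_of_card_eq eq_of_relIndex_eq_one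
  sup_eq_of_hall_compl sdp_of_hall sdp_card sdp_relIndex_right sdp_relIndex_left
  hall_right_of_sdp hall_left_of_sdp exists_piNat_mul exists_hall_ge exists_hall
  exists_cj_le_hall hall_conj piCoreOf_isPi le_piCoreOf piCoreOf_le_hall
  piCoreOf_eq_of_normal_hall norm_le_norm_of_normal_hall syl_isPGroup syl_mk syl_not_dvd
  syl_map syl_coe exists_sylow_of_syl exists_sylow_of_syl_top exists_syl_ge exists_syl syl_conj
  exists_cj_le_syl syl_eq_of_le syl_trans syl_ne_bot le_of_forall_syl syl_norm_of_nilpotent
  piCoreOf_hall_of_nilpotent le_piCoreOf_of_nilpotent hall_eq_piCoreOf_of_nilpotent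
  norm_le_norm_hall_of_nilpotent le_cent_of_nilpotent le_cent_of_nilpotent_of_hall
  abelian_of_nilpotent isCyclic_of_nilpotent)

export Subgroup (card_dvd_of_le commutator_mono zpowers_le zpowers_eq_bot ne_bot_iff_exists_ne_one
  mem_inf mem_sup_left mem_sup_right commutator_comm eq_of_le_of_card_ge zpowers mem_zpowers)

end Cfsg.Agent.FT.B13
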