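import Cfsg.Agent.FT.BG14Base

/-! Aliases in the namespace `FT.B14`, so that section 14 does not depend on `open`. -/

namespace Cfsg.Agent.FT.B14

export Cfsg.Agent.FT.B12 (
  piNat_of_dvd piNat_one piNat_mul piNat_prime piNat_pow coprime_of_piNat eq_one_of_piNat
  isPi_of_le isPi_mono isPi_bot isPi_singleton_iff isPi_of_isPGroup isPi_of_card isPGroup_of_card
  ne_bot_of_card isPi_compl_singleton_iff isPi_compl_of_not_mem coprime_of_isPi coprime_of_isPi'
  inf_eq_bot_of_isPi inf_eq_bot_of_isPi' eq_bot_of_isPi card_sup_dvd isPi_sup isPi_cj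
  piNat_orderOf isPi_zpowers exists_card_eq_prime exists_prime_card_le eq_bot_or_eq_of_card_prime
  relIndex_dvd_of_norm relIndex_sup_of_norm le_of_coprime_relIndex le_of_le_sup_of_isPi hall_isPi
  hall_piNat hall_mk hall_coprime hall_self hall_of_le hall_trans piNat_relIndex_of_hall_le
  hall_eq_of_le le_normal_hall normal_le_hall normal_hall_inf hall_inf_normal hall_cj
  hall_cj_of_mem hall_congr dvd_card_hall card_dvd_hall hall_card_eq hall_of_card_eq
  eq_of_relIndex_eq_one sup_eq_of_hall_compl sdp_of_hall sdp_card sdp_relIndex_right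
  sdp_relIndex_left hall_right_of_sdp hall_left_of_sdp exists_piNat_mul exists_hall_ge exists_hall
  exists_cj_le_hall hall_conj piCoreOf_isPi le_piCoreOf piCoreOf_le_hall
  piCoreOf_eq_of_normal_hall norm_le_norm_of_normal_hall syl_isPGroup syl_mk syl_not_dvd syl_map
  syl_coe exists_sylow_of_syl exists_sylow_of_syl_top exists_syl_ge exists_syl syl_conj
  exists_cj_le_syl syl_eq_of_le syl_trans syl_ne_bot le_of_forall_syl syl_norm_of_nilpotent
  piCoreOf_hall_of_nilpotent le_piCoreOf_of_nilpotent hall_eq_piCoreOf_of_nilpotent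
  norm_le_norm_hall_of_nilpotent le_cent_of_nilpotent le_cent_of_nilpotent_of_hall
  abelian_of_nilpotent isCyclic_of_nilpotent elem_isPGroup elem_abelian elem_le_cent elem_pow
  elem_mono elem_top elem_cj isEA_of_le isEA_isPGroup isEA_of_card_prime isEA_sup
  elem_two_not_cyclic elem_two_ne_bot elem_two_dvd card_zpowers_of_pow card_eq_of_lt_sq
  bddAbove_prank le_prank_of_elem elem_zero exists_elem_prank exists_elem_of_le le_prank_iff
  card_le_of_isEA prank_le_iff prank_mono prank_cj one_le_prank_iff prank_eq_of_not_dvd prank_hall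
  prank_syl isCyclic_of_prank_le_one prank_le_one_of_isCyclic bddAbove_rank le_rank_of_elem
  prank_le_rank exists_prank_eq_rank rank_le_iff rank_le_iff_rankLE rank_mono omegaOne_le
  mem_omegaOne norm_le_norm_omegaOne isEA_omegaOne omegaOne_ne_bot sigma_prime mem_sigma_iff
  norm_syl_le_of_sigma sigma_cj_subset sigma_cj mem_alpha_iff sigmaCore_normIn alphaCore_normIn
  sigmaCore_isPi alphaCore_isPi solv_of_coatom solv_of_le ne_top_of_le exists_max_norm
  coatom_ne_bot der_lt onlyMax_of_uniq uniq_of_onlyMax exists_of_not_onlyMax onlyMax_cj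
  mem_of_cj_eq le_of_cent_prime_le)

export Subgroup (
  card_dvd_of_le commutator_mono zpowers_le zpowers_eq_bot ne_bot_iff_exists_ne_one mem_inf
  mem_sup_left mem_sup_right commutator_comm eq_of_le_of_card_ge zpowers mem_zpowers
  zpowers_le_of_mem card_bot card_eq_one mem_bot mem_top relIndex_mul_relIndex relIndex_bot_left
  relIndex_dvd_of_le_left relIndex_dvd_card mem_set_normalizer_iff mem_normalizer_iff
  relIndex_top_right relIndex_eq_one card_le_of_le mul_mem_cancel_left mul_mem_cancel_right
  card_mul_index one_lt_card_iff_ne_bot eq_bot_iff_forall commutator_mem_commutator card_top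
  index_ne_zero_of_finite)

end Cfsg.Agent.FT.B14
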