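import Mathlib
import Cfsg.Agent.FT.Defs
import Cfsg.Agent.FT.BG9_1
import Cfsg.Agent.FT.BG9_6

/-! B & G section 9: the uniqueness theorem (summary for the later sections).
`bg9_1a`, `bg9_1b`, `bg9_2` are in `FT/BG9_1`, `bg9_3`, `bg9_4` in `FT/BG9_3`, `bg9_5` in
`FT/BG9_5` and `bg9_6a`, `bg9_6b`, `bg9_6c` in `FT/BG9_6`. -/
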